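import Groth.Agent.L14.FiltS2.Rees
import Mathlib.RingTheory.Ideal.AssociatedPrime.Finiteness

/-!
S2 of the Rees algebra from S2 of the extended Rees algebra.
-/

set_option autoImplicit false
set_option linter.style.haveILetI false
universe u

open LaurentPolynomial

namespace Groth.L14.FiltS2

variable {A : Type u} [CommRing A] (𝓕 : FiltBl.IdealFiltration A)

theorem mem_span_u {f : 𝓕.extRees} :
    f ∈ Ideal.span {𝓕.u} ↔ ∀ i : ℤ, (f : LaurentPolynomial A).coeff i ∈ 𝓕.F (i + 1).toNat := by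
  rw [Ideal.mem_span_singleton]
  constructor
  · rintro ⟨g, rfl⟩ i
    rw [MulMemClass.coe_mul, Groth.L12.FiltReesExt.coe_u,
      show (T (-1) : LaurentPolynomial A) = C 1 * T (-1) by rw [map_one, one_mul], mul_T_coeff, one_mul, sub_neg_eq_add]
    exact g.2 _
  · intro h
    refine ⟨⟨C 1 * T 1 * (f : LaurentPolynomial A), fun i => ?_⟩, Subtype.ext ?_⟩
    · rw [mul_T_coeff, one_mul]
      simpa using h (i - 1)
    · show (f : LaurentPolynomial A) = T (-1) * (C 1 * T 1 * (f : LaurentPolynomial A))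
      rw [← mul_assoc, map_one, one_mul, ← T_add, neg_add_cancel, T_zero, one_mul]

/-- Descending induction along the filtration: an element multiplied into higher pieces by `p` and by
the positive pieces is itself in the higher piece near `p`. -/
theorem exists_smul_mem_F [IsNoetherianRing 𝓕.extRees] (h : LocCoh.HasSk 2 𝓕.extRees 𝓕.extRees)
    (p : Ideal A) [p.IsPrime] (hp : 𝓕.F 1 ≤ p) (hh : 2 ≤ p.height) (n : ℕ) (w₀ : A)
    (hpw : ∀ t ∈ p, t * w₀ ∈ 𝓕.F n) (hFw : ∀ m, 1 ≤ m → ∀ b ∈ 𝓕.F m, b * w₀ ∈ 𝓕.F (n + m)) :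
    ∀ k, k ≤ n → ∃ s ∉ p, s * w₀ ∈ 𝓕.F k := by
  haveI := qIdeal_isPrime 𝓕 p hp
  have h2 : (2 : ℕ∞) ≤ LocCoh.depth (Localization.AtPrime (qIdeal 𝓕 p hp)) (Localization.AtPrime (qIdeal 𝓕 p hp)) := by
    have hs := hasSk_iff.1 h (qIdeal 𝓕 p hp)
    rw [Sat, IsLocalization.AtPrime.ringKrullDim_eq_height (qIdeal 𝓕 p hp),
      show ((2 : ℕ) : WithBot ℕ∞) = ((2 : ℕ∞) : WithBot ℕ∞) from rfl, ← WithBot.coe_min, WithBot.coe_le_coe] at hs
    rwa [min_eq_left (two_le_height_qIdeal 𝓕 p hp hh)] at hs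
  have huQ : 𝓕.u ∈ qIdeal 𝓕 p hp := by
    show (T (-1) : LaurentPolynomial A).coeff 0 ∈ p
    simp [T_apply]
  intro k
  induction k with
  | zero => exact fun _ => ⟨1, fun h1 => Ideal.IsPrime.ne_top' (I := p) ((Ideal.eq_top_iff_one p).2 h1), by rw [𝓕.zero_eq]; trivial⟩
  | succ k ih =>
    intro hk
    obtain ⟨s, hs, hsw⟩ := ih (by omega)
    let y : 𝓕.extRees := ⟨C (s * w₀) * T (k : ℤ), fun i => by
      rw [← single_eq_C_mul_T, AddMonoidAlgebra.coeff_single, Finsupp.single_apply]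
      split_ifs with hi
      · subst hi; simpa using hsw
      · exact Ideal.zero_mem _⟩
    obtain ⟨c, hc, hcy⟩ := exists_smul_mem_of_two_le_depth (qIdeal 𝓕 p hp) (Groth.L12.FiltReesExt.u_regular 𝓕) huQ h2
      (y := y) fun q hq => (mem_span_u 𝓕).2 fun i => by
        rw [MulMemClass.coe_mul, mul_comm, mul_T_coeff, show s * w₀ * (q : LaurentPolynomial A).coeff (i - k) =
          s * ((q : LaurentPolynomial A).coeff (i - k) * w₀) by ring]
        rcases lt_trichotomy (i - k) 0 with hj | hj | hj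
        · rw [show s * ((q : LaurentPolynomial A).coeff (i - k) * w₀) = (q : LaurentPolynomial A).coeff (i - k) * (s * w₀) by ring]
          exact Ideal.mul_mem_left _ _ (𝓕.antitone (show (i + 1).toNat ≤ k by omega) hsw)
        · rw [hj]
          exact Ideal.mul_mem_left _ _ (𝓕.antitone (show (i + 1).toNat ≤ n by omega) (hpw _ hq))
        · exact Ideal.mul_mem_left _ _ (𝓕.antitone (show (i + 1).toNat ≤ n + (i - k).toNat by omega)
            (hFw _ (by omega) _ (q.2 _)))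
    refine ⟨(c : LaurentPolynomial A).coeff 0 * s, fun hm => (Ideal.IsPrime.mem_or_mem (I := p) inferInstance hm).elim hc hs, ?_⟩
    have h3 := (mem_span_u 𝓕).1 hcy (k : ℤ)
    rw [MulMemClass.coe_mul, mul_comm, mul_T_coeff, sub_self] at h3
    rw [show (c : LaurentPolynomial A).coeff 0 * s * w₀ = s * w₀ * (c : LaurentPolynomial A).coeff 0 by ring]
    simpa [show ((k : ℤ) + 1).toNat = k + 1 by omega] using h3

theorem exists_regular_mem [IsNoetherianRing A] (hA : LocCoh.HasSk 2 A A) (p : Ideal A) [p.IsPrime]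
    (hh : 2 ≤ p.height) : ∃ a ∈ p, IsSMulRegular A a := by
  by_contra hno
  push Not at hno
  have hsub : (p : Set A) ⊆ ⋃ q ∈ (associatedPrimes.finite A A).toFinset, (q : Set A) := fun a ha => by
    have : a ∈ ⋃ q ∈ associatedPrimes A A, (q : Set A) := by
      rw [biUnion_associatedPrimes_eq_compl_regular]
      exact hno a ha
    simpa using this
  obtain ⟨q, hq, hle⟩ := (Ideal.subset_union_prime (f := id) ⊥ ⊥
    (fun q hq _ _ => IsAssociatedPrime.isPrime ((Set.Finite.mem_toFinset _).mp hq))).mp hsub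
  have hq' := (Set.Finite.mem_toFinset _).mp hq
  haveI : q.IsPrime := IsAssociatedPrime.isPrime hq'
  have h0 : LocCoh.depth (Localization.AtPrime q) (Localization.AtPrime q) = 0 := by
    obtain ⟨-, z, hz⟩ := hq' |> fun h => (show _ ∧ ∃ z : A, q = (⊥ : Submodule A A).colon {z} from
      ⟨IsAssociatedPrime.isPrime h, ((isAssociatedPrime_iff).1 h).2⟩)
    refine Groth.L01.depth_eq_zero_of_smul_eq_zero (m := algebraMap A (Localization.AtPrime q) z) ?_ fun x hx => ?_
    · intro h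
      obtain ⟨⟨s, hs⟩, hsz⟩ := (IsLocalization.map_eq_zero_iff q.primeCompl _ z).1 h
      exact hs (by rw [SetLike.mem_coe, hz, Submodule.mem_colon_singleton, Submodule.mem_bot, smul_eq_mul]; exact hsz)
    · obtain ⟨x', t, rfl⟩ := IsLocalization.exists_mk'_eq q.primeCompl x
      rw [IsLocalization.AtPrime.mk'_mem_maximal_iff (Localization.AtPrime q) q] at hx
      rw [hz, Submodule.mem_colon_singleton, Submodule.mem_bot, smul_eq_mul] at hx
      rw [smul_eq_mul, mul_comm, IsLocalization.mul_mk'_eq_mk'_of_mul, mul_comm, hx, IsLocalization.mk'_zero]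
  have hs := hasSk_iff.1 hA q
  rw [Sat, IsLocalization.AtPrime.ringKrullDim_eq_height q, h0,
    show ((2 : ℕ) : WithBot ℕ∞) = ((2 : ℕ∞) : WithBot ℕ∞) from rfl, ← WithBot.coe_min, WithBot.coe_le_coe] at hs
  have hle' : p ≤ q := hle
  rw [min_eq_left (hh.trans (Ideal.height_mono hle'))] at hs
  exact absurd hs (by decide)

/-- S2 of the extended Rees algebra implies S2 of the Rees algebra. -/
theorem hasS2_rees [IsNoetherianRing A] (hfg : Algebra.FiniteType A 𝓕.rees) (hht : 2 ≤ (𝓕.F 1).height)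
    (h : LocCoh.HasSk 2 𝓕.extRees 𝓕.extRees) : LocCoh.HasSk 2 𝓕.rees 𝓕.rees := by
  haveI := isNoetherian_extRees 𝓕 hfg
  haveI : IsNoetherianRing 𝓕.rees := Algebra.FiniteType.isNoetherianRing A 𝓕.rees
  have hA := hasS2_base 𝓕 hfg h
  refine hasSk_iff.2 fun P _ => ?_
  by_cases h1 : ∃ (n : ℕ) (_ : 1 ≤ n) (b : A) (hb : b ∈ 𝓕.F n), rmon 𝓕 n b hb ∉ P
  · obtain ⟨n, hn, b, hb, hbP⟩ := h1
    exact sat_of_cofinal (incl 𝓕) (incl_injective 𝓕) (rmon 𝓕 n b hb) (cofinal_incl 𝓕 hn b hb) h P hbP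
  by_cases h2 : ∃ (s : A) (_ : s ∈ 𝓕.F 1), rmon 𝓕 0 s (by simp [𝓕.zero_eq]) ∉ P
  · obtain ⟨s, hs, hsP⟩ := h2
    exact sat_of_cofinal 𝓕.rees.val.toRingHom Subtype.val_injective _ (cofinal_val 𝓕 hs) (hasSk_polynomial hA) P hsP
  push Not at h1 h2
  let p := P.comap (algebraMap A 𝓕.rees)
  have h0 : ∀ t (ht : t ∈ 𝓕.F 0), rmon 𝓕 0 t ht = algebraMap A 𝓕.rees t := fun t ht => Subtype.ext (by
    show Polynomial.monomial 0 t = _
    rw [Subalgebra.coe_algebraMap, Polynomial.monomial_zero_left]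
    rfl)
  have hp : 𝓕.F 1 ≤ p := fun s hs => Ideal.mem_comap.2 (h0 s _ ▸ h2 s hs)
  have hh : 2 ≤ p.height := hht.trans (Ideal.height_mono hp)
  obtain ⟨a, hap, ha⟩ := exists_regular_mem hA p hh
  have hd : (2 : ℕ∞) ≤ LocCoh.depth (Localization.AtPrime p) (Localization.AtPrime p) := by
    have hs := hasSk_iff.1 hA p
    rw [Sat, IsLocalization.AtPrime.ringKrullDim_eq_height p,
      show ((2 : ℕ) : WithBot ℕ∞) = ((2 : ℕ∞) : WithBot ℕ∞) from rfl, ← WithBot.coe_min, WithBot.coe_le_coe] at hs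
    rwa [min_eq_left hh] at hs
  have hcoe : ∀ (t : A) (y : 𝓕.rees) (m : ℕ),
      ((algebraMap A 𝓕.rees t * y : 𝓕.rees) : Polynomial A).coeff m = t * (y : Polynomial A).coeff m := fun t y m => by
    rw [MulMemClass.coe_mul, Subalgebra.coe_algebraMap, Polynomial.algebraMap_apply, Polynomial.coeff_C_mul]
    rfl
  have haR : IsSMulRegular 𝓕.rees (algebraMap A 𝓕.rees a) := fun x y hxy => Subtype.ext (Polynomial.ext fun m => ha (by
    have := congrArg (fun z : 𝓕.rees => (z : Polynomial A).coeff m) hxy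
    simpa only [smul_eq_mul, hcoe] using this))
  refine (min_le_left _ _).trans (WithBot.coe_le_coe.2 (two_le_depth_of_forall P haR hap fun y hy => ?_))
  have hmon : ∀ m b (hb : b ∈ 𝓕.F m), rmon 𝓕 m b hb ∈ P → ∀ n, ∃ z ∈ 𝓕.F (n + m),
      b * (y : Polynomial A).coeff n = a * z := fun m b hb hbP n => by
    obtain ⟨z, hz⟩ := Ideal.mem_span_singleton.1 (hy _ hbP)
    refine ⟨(z : Polynomial A).coeff (n + m), z.2 _, ?_⟩
    have := congrArg (fun z : 𝓕.rees => (z : Polynomial A).coeff (n + m)) hz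
    simp only [hcoe] at this
    rwa [MulMemClass.coe_mul, show ((rmon 𝓕 m b hb : 𝓕.rees) : Polynomial A) = Polynomial.monomial m b from rfl,
      Polynomial.coeff_monomial_mul] at this
  have hcoef : ∀ n, ∃ t ∉ p, ∃ w ∈ 𝓕.F n, t * (y : Polynomial A).coeff n = a * w := fun n => by
    have hpm : ∀ t ∈ p, ∃ z ∈ 𝓕.F n, t * (y : Polynomial A).coeff n = a * z := fun t ht =>
      hmon 0 t (by simp [𝓕.zero_eq]) (by rw [h0]; exact ht) n
    obtain ⟨s₁, hs₁, hs₁x⟩ := exists_smul_mem_of_two_le_depth p ha hap hd (y := (y : Polynomial A).coeff n)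
      fun t ht => by
        obtain ⟨z, -, hz⟩ := hpm t ht
        exact Ideal.mem_span_singleton.2 ⟨z, hz⟩
    obtain ⟨w₀, hw₀⟩ := Ideal.mem_span_singleton.1 hs₁x
    have hmul : ∀ b z, b * (y : Polynomial A).coeff n = a * z → b * w₀ = s₁ * z := fun b z hz => ha (by
      show a * (b * w₀) = a * (s₁ * z)
      rw [mul_left_comm, ← hw₀, mul_left_comm, hz, mul_left_comm])
    obtain ⟨s, hs, hsw⟩ := exists_smul_mem_F 𝓕 h p hp hh n w₀
      (fun t ht => by
        obtain ⟨z, hz, hz'⟩ := hpm t ht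
        rw [hmul t z hz']
        exact Ideal.mul_mem_left _ _ hz)
      (fun m hm b hb => by
        obtain ⟨z, hz, hz'⟩ := hmon m b hb (h1 m hm b hb) n
        rw [hmul b z hz']
        exact Ideal.mul_mem_left _ _ hz) n le_rfl
    exact ⟨s * s₁, fun hm => (Ideal.IsPrime.mem_or_mem (I := p) inferInstance hm).elim hs hs₁, s * w₀, hsw,
      by rw [mul_assoc, hw₀, mul_left_comm]⟩
  choose t ht w hw htw using hcoef
  let S := ∏ n ∈ (y : Polynomial A).support, t n
  have hS : S ∉ p := fun hm => by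
    obtain ⟨n, -, hn⟩ := (Ideal.IsPrime.prod_mem_iff).1 hm
    exact ht n hn
  refine ⟨algebraMap A 𝓕.rees S, hS, Ideal.mem_span_singleton.2 ?_⟩
  let z : 𝓕.rees := ∑ n ∈ (y : Polynomial A).support,
    algebraMap A 𝓕.rees (∏ i ∈ (y : Polynomial A).support.erase n, t i) * rmon 𝓕 n (w n) (hw n)
  refine ⟨z, Subtype.ext (Polynomial.ext fun m => ?_)⟩
  rw [hcoe, hcoe, AddSubmonoidClass.coe_finset_sum, Polynomial.finset_sum_coeff]
  simp only [hcoe, show ∀ n, ((rmon 𝓕 n (w n) (hw n) : 𝓕.rees) : Polynomial A) = Polynomial.monomial n (w n) from fun n => rfl,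
    Polynomial.coeff_monomial, mul_ite, mul_zero, Finset.sum_ite_eq']
  split_ifs with hm
  · calc S * (y : Polynomial A).coeff m
        = (∏ i ∈ (y : Polynomial A).support.erase m, t i) * (t m * (y : Polynomial A).coeff m) := by
          rw [← mul_assoc, Finset.prod_erase_mul _ _ hm]
      _ = a * ((∏ i ∈ (y : Polynomial A).support.erase m, t i) * w m) := by rw [htw]; ring
  · rw [Polynomial.notMem_support_iff.1 hm, mul_zero]

end Groth.L14.FiltS2
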