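import Groth.Agent.L14.FiltS2.Generic
import Groth.Agent.L12.FiltReesPunct
import Mathlib.RingTheory.Localization.Away.Basic

/-!
Serre's condition S2 for (extended) Rees algebras.
-/

set_option autoImplicit false
set_option linter.style.haveILetI false
universe u

open LaurentPolynomial

namespace Groth.L14.FiltS2

variable {A : Type u} [CommRing A] (𝓕 : FiltBl.IdealFiltration A)

/-- If every element of `S` has a multiple by a power of `g` in `R`, then `R` and `S` agree off `g`. -/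
theorem sat_of_cofinal {R S : Type u} [CommRing R] [IsNoetherianRing R] [CommRing S] [IsNoetherianRing S]
    (ι : R →+* S) (hι : Function.Injective ι) (g : R) (hg : ∀ y : S, ∃ (j : ℕ) (r : R), ι r = ι g ^ j * y)
    {k : ℕ} (hS : LocCoh.HasSk k S S) (P : Ideal R) [P.IsPrime] (hgP : g ∉ P) :
    Sat k (Localization.AtPrime P) := by
  let T := Localization.Away (ι g)
  letI : Algebra R T := ((algebraMap S T).comp ι).toAlgebra
  have hmap : ∀ r, algebraMap R T r = algebraMap S T (ι r) := fun r => rfl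
  haveI : IsLocalization.Away g T := by
    refine ⟨?_, fun z => ?_, fun {x y} h => ?_⟩
    · rintro ⟨_, n, rfl⟩
      show IsUnit (algebraMap R T (g ^ n))
      rw [map_pow, hmap]
      exact (IsLocalization.Away.algebraMap_isUnit (ι g)).pow n
    · obtain ⟨n, a, hz⟩ := IsLocalization.Away.surj (ι g) z
      obtain ⟨j, r, hr⟩ := hg a
      refine ⟨(r, ⟨g ^ (n + j), n + j, rfl⟩), ?_⟩
      show z * algebraMap R T (g ^ (n + j)) = algebraMap R T r
      rw [hmap, hmap, hr, map_pow, pow_add, map_mul, map_mul, ← hz, map_pow, map_pow]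
      ring
    · rw [hmap, hmap] at h
      obtain ⟨n, hn⟩ := IsLocalization.Away.exists_of_eq (ι g) h
      refine ⟨⟨g ^ n, n, rfl⟩, hι ?_⟩
      simpa [map_mul, map_pow] using hn
  haveI : IsNoetherianRing T := IsLocalization.isNoetherianRing (Submonoid.powers (ι g)) _ inferInstance
  refine sat_of_localization (Submonoid.powers g) (hasSk_localization (S := T) (Submonoid.powers (ι g)) hS) P ?_
  rintro _ ⟨n, rfl⟩ hn
  exact hgP (Ideal.IsPrime.mem_of_pow_mem ‹_› n hn)

theorem isNoetherian_extRees [IsNoetherianRing A] (hfg : Algebra.FiniteType A 𝓕.rees) :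
    IsNoetherianRing 𝓕.extRees :=
  haveI := Groth.L12.FiltReesExt.finiteType_extRees 𝓕 hfg
  Algebra.FiniteType.isNoetherianRing A 𝓕.extRees

theorem hasS2_base [IsNoetherianRing A] (hfg : Algebra.FiniteType A 𝓕.rees)
    (h : LocCoh.HasSk 2 𝓕.extRees 𝓕.extRees) : LocCoh.HasSk 2 A A :=
  haveI := isNoetherian_extRees 𝓕 hfg
  haveI := Groth.L12.FiltReesExt.isLocalization_powers_u 𝓕
  hasSk_laurent_iff.1 (hasSk_localization (Submonoid.powers 𝓕.u) h)

/-- S2 for the extended Rees algebra. -/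
theorem hasS2_extRees_iff [IsNoetherianRing A] (hfg : Algebra.FiniteType A 𝓕.rees) :
    LocCoh.HasSk 2 𝓕.extRees 𝓕.extRees ↔ (LocCoh.HasSk 1 𝓕.Gr 𝓕.Gr ∧ LocCoh.HasSk 2 A A) := by
  haveI := isNoetherian_extRees 𝓕 hfg
  have hu := Groth.L12.FiltReesExt.u_regular 𝓕
  refine ⟨fun h => ⟨hasSk_iff.2 fun Q _ => (sat_quotient_iff hu 1 Q).1 (hasSk_iff.1 h _), hasS2_base 𝓕 hfg h⟩, ?_⟩
  rintro ⟨hG, hA⟩
  refine hasSk_iff.2 fun P _ => ?_
  haveI := Groth.L12.FiltReesExt.isLocalization_powers_u 𝓕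
  by_cases huP : 𝓕.u ∈ P
  · have hk : RingHom.ker (Ideal.Quotient.mk (Ideal.span {𝓕.u})) ≤ P := by
      rw [Ideal.mk_ker, Ideal.span_singleton_le_iff_mem]; exact huP
    haveI := Ideal.map_isPrime_of_surjective (f := Ideal.Quotient.mk (Ideal.span {𝓕.u})) Ideal.Quotient.mk_surjective hk
    refine (sat_congr _ P ?_).1 ((sat_quotient_iff hu 1 (P.map (Ideal.Quotient.mk (Ideal.span {𝓕.u})))).2
      (hasSk_iff.1 hG _))
    rw [Ideal.comap_map_of_surjective _ Ideal.Quotient.mk_surjective, ← RingHom.ker_eq_comap_bot, sup_eq_left.2 hk]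
  · refine sat_of_localization (Submonoid.powers 𝓕.u) (hasSk_laurent_iff.2 hA) P ?_
    rintro _ ⟨n, rfl⟩ hn
    exact huP (Ideal.IsPrime.mem_of_pow_mem ‹_› n hn)

/-- A homogeneous element of the Rees algebra. -/
noncomputable def rmon (n : ℕ) (a : A) (ha : a ∈ 𝓕.F n) : 𝓕.rees :=
  ⟨Polynomial.monomial n a, fun i => by
    rw [Polynomial.coeff_monomial]; split_ifs with h
    · exact h ▸ ha
    · exact Ideal.zero_mem _⟩

theorem toLaurent_coeff_natCast (f : Polynomial A) (m : ℕ) :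
    (Polynomial.toLaurent f).coeff (m : ℤ) = f.coeff m := by
  rw [LaurentPolynomial.coeff_toLaurent]
  exact Finsupp.mapDomain_apply Nat.cast_injective _ _

theorem toLaurent_coeff_neg (f : Polynomial A) {i : ℤ} (hi : i < 0) : (Polynomial.toLaurent f).coeff i = 0 := by
  rw [LaurentPolynomial.coeff_toLaurent]
  refine Finsupp.mapDomain_notin_range _ _ ?_
  rintro ⟨m, hm⟩
  change (m : ℤ) = i at hm
  omega

/-- The inclusion of the Rees algebra into the extended one. -/
noncomputable def incl : 𝓕.rees →+* 𝓕.extRees :=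
  (Polynomial.toLaurent.comp 𝓕.rees.val.toRingHom).codRestrict 𝓕.extRees fun f i => by
    show (Polynomial.toLaurent (f : Polynomial A)).coeff i ∈ 𝓕.F i.toNat
    by_cases hi : 0 ≤ i
    · obtain ⟨m, rfl⟩ := Int.eq_ofNat_of_zero_le hi
      rw [toLaurent_coeff_natCast]
      simpa using f.2 m
    · rw [Int.toNat_of_nonpos (le_of_not_ge hi), 𝓕.zero_eq]
      trivial

theorem coe_incl (f : 𝓕.rees) : (incl 𝓕 f : LaurentPolynomial A) = Polynomial.toLaurent (f : Polynomial A) := rfl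

theorem incl_injective : Function.Injective (incl 𝓕) := fun f g h =>
  Subtype.ext (Polynomial.toLaurent_injective (congrArg Subtype.val h))

theorem mul_T_coeff (z : LaurentPolynomial A) (a : A) (n i : ℤ) :
    (C a * T n * z).coeff i = a * z.coeff (i - n) := by
  rw [mul_comm, ← single_eq_C_mul_T, AddMonoidAlgebra.coeff_mul_single_eq_coeff_mul (i - n) (fun m _ => by omega),
    mul_comm]

theorem cofinal_incl {n : ℕ} (hn : 1 ≤ n) (a : A) (ha : a ∈ 𝓕.F n) (y : 𝓕.extRees) :
    ∃ (j : ℕ) (r : 𝓕.rees), incl 𝓕 r = incl 𝓕 (rmon 𝓕 n a ha) ^ j * y := by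
  obtain ⟨j, hj⟩ : ∃ j : ℕ, ∀ i ∈ (y : LaurentPolynomial A).coeff.support, -(j : ℤ) ≤ i :=
    ⟨(y : LaurentPolynomial A).coeff.support.sup Int.natAbs, fun i hi => by
      have := Finset.le_sup (f := Int.natAbs) hi
      omega⟩
  let z := incl 𝓕 (rmon 𝓕 n a ha) ^ j * y
  have hz : ∀ i : ℤ, i < 0 → (z : LaurentPolynomial A).coeff i = 0 := fun i hi => by
    show ((incl 𝓕 (rmon 𝓕 n a ha) ^ j * y : 𝓕.extRees) : LaurentPolynomial A).coeff i = 0
    rw [MulMemClass.coe_mul, SubmonoidClass.coe_pow, coe_incl,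
      show ((rmon 𝓕 n a ha : 𝓕.rees) : Polynomial A) = Polynomial.monomial n a from rfl,
      Polynomial.toLaurent_C_mul_T, mul_pow, ← map_pow, T_pow, mul_T_coeff,
      Finsupp.notMem_support_iff.1 fun h => ?_, mul_zero]
    have := hj _ h
    have : (j : ℤ) * 1 ≤ (j : ℤ) * (n : ℤ) := Int.mul_le_mul_of_nonneg_left (by exact_mod_cast hn) (by positivity)
    omega
  obtain ⟨N, f', hf'⟩ := exists_T_pow (z : LaurentPolynomial A)
  refine ⟨j, ⟨Polynomial.divX^[N] f', fun m => ?_⟩, Subtype.ext ?_⟩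
  all_goals
    have hc : ∀ m : ℕ, (Polynomial.divX^[N] f').coeff m = (z : LaurentPolynomial A).coeff m := fun m => by
      have h1 : ∀ N m, (Polynomial.divX^[N] f').coeff m = f'.coeff (m + N) := by
        intro N
        induction N with
        | zero => intro m; rfl
        | succ N ih =>
          intro m
          rw [Function.iterate_succ_apply', Polynomial.coeff_divX, ih, show m + 1 + N = m + (N + 1) by ring]
      have h2 := congrArg (fun p : LaurentPolynomial A => p.coeff ((m + N : ℕ) : ℤ)) hf'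
      rw [toLaurent_coeff_natCast] at h2
      simp only [T] at h2
      rw [AddMonoidAlgebra.coeff_mul_single_eq_coeff_mul (m : ℤ) (fun i _ => by push_cast; omega), mul_one] at h2
      rw [h1, h2]
  · rw [hc]
    exact z.2 m
  · refine LaurentPolynomial.ext fun i => ?_
    show (Polynomial.toLaurent (Polynomial.divX^[N] f')).coeff i = (z : LaurentPolynomial A).coeff i
    by_cases hi : 0 ≤ i
    · obtain ⟨m, rfl⟩ := Int.eq_ofNat_of_zero_le hi
      rw [toLaurent_coeff_natCast, hc]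
    · rw [hz i (lt_of_not_ge hi), toLaurent_coeff_neg _ (lt_of_not_ge hi)]

theorem cofinal_val {s : A} (hs : s ∈ 𝓕.F 1) (y : Polynomial A) :
    ∃ (j : ℕ) (r : 𝓕.rees),
      𝓕.rees.val.toRingHom r = 𝓕.rees.val.toRingHom (rmon 𝓕 0 s (by simp [𝓕.zero_eq])) ^ j * y := by
  have hpow : ∀ j, s ^ j ∈ 𝓕.F j := fun j => by
    induction j with
    | zero => rw [𝓕.zero_eq]; trivial
    | succ j ih => rw [pow_succ]; exact 𝓕.mul_le j 1 (Ideal.mul_mem_mul ih hs)
  refine ⟨y.natDegree, ⟨Polynomial.C (s ^ y.natDegree) * y, fun m => ?_⟩, ?_⟩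
  · rw [Polynomial.coeff_C_mul]
    by_cases hm : m ≤ y.natDegree
    · exact Ideal.mul_mem_right _ _ (𝓕.antitone hm (hpow _))
    · rw [Polynomial.coeff_eq_zero_of_natDegree_lt (lt_of_not_ge hm), mul_zero]
      exact Ideal.zero_mem _
  · simp [rmon, map_pow]

/-- The prime of the extended Rees algebra over `p` containing `u` and the positive part. -/
def qIdeal (p : Ideal A) (hp : 𝓕.F 1 ≤ p) : Ideal 𝓕.extRees where
  carrier := {f | (f : LaurentPolynomial A).coeff 0 ∈ p}
  zero_mem' := by simp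
  add_mem' {x y} hx hy := by
    show ((x + y : 𝓕.extRees) : LaurentPolynomial A).coeff 0 ∈ p
    rw [AddMemClass.coe_add, AddMonoidAlgebra.coeff_add, Finsupp.add_apply]
    exact add_mem hx hy
  smul_mem' c {f} hf := by
    classical
    show ((c * f : 𝓕.extRees) : LaurentPolynomial A).coeff 0 ∈ p
    rw [MulMemClass.coe_mul, AddMonoidAlgebra.coeff_mul]
    simp only [Finsupp.sum]
    refine Submodule.sum_mem _ fun i _ => Submodule.sum_mem _ fun j _ => ?_
    split_ifs with h
    · rcases lt_trichotomy i 0 with hi | rfl | hi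
      · exact Ideal.mul_mem_left _ _ (hp (𝓕.antitone (show 1 ≤ j.toNat by omega) (f.2 j)))
      · rw [show j = 0 by omega]; exact Ideal.mul_mem_left _ _ hf
      · exact Ideal.mul_mem_right _ _ (hp (𝓕.antitone (show 1 ≤ i.toNat by omega) (c.2 i)))
    · exact zero_mem _

theorem coeff_zero_mul_sub_mem (p : Ideal A) (hp : 𝓕.F 1 ≤ p) (x y : 𝓕.extRees) :
    ((x * y : 𝓕.extRees) : LaurentPolynomial A).coeff 0 - (x : LaurentPolynomial A).coeff 0 * (y : LaurentPolynomial A).coeff 0 ∈ p := by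
  let c : 𝓕.extRees := algebraMap A 𝓕.extRees ((y : LaurentPolynomial A).coeff 0)
  have hc : y - c ∈ qIdeal 𝓕 p hp := by
    show ((y - c : 𝓕.extRees) : LaurentPolynomial A).coeff 0 ∈ p
    simp [c, LaurentPolynomial.algebraMap_apply, LaurentPolynomial.C_apply]
  have h : ((x * (y - c) : 𝓕.extRees) : LaurentPolynomial A).coeff 0 ∈ p := (qIdeal 𝓕 p hp).mul_mem_left x hc
  rw [mul_sub, AddSubgroupClass.coe_sub, AddMonoidAlgebra.coeff_sub, Finsupp.sub_apply] at h
  convert h using 2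
  rw [MulMemClass.coe_mul, mul_comm (x : LaurentPolynomial A)]
  simp only [c, Subalgebra.coe_algebraMap, LaurentPolynomial.algebraMap_apply, Algebra.algebraMap_self, RingHom.id_apply]
  rw [← mul_one (C _), ← T_zero, mul_T_coeff, sub_zero, mul_comm]

theorem qIdeal_isPrime (p : Ideal A) [p.IsPrime] (hp : 𝓕.F 1 ≤ p) : (qIdeal 𝓕 p hp).IsPrime := by
  refine Ideal.isPrime_iff.2 ⟨fun h => Ideal.IsPrime.ne_top' (I := p) ((Ideal.eq_top_iff_one p).2 ?_), fun {x y} hxy => ?_⟩
  · have h1 : (1 : 𝓕.extRees) ∈ qIdeal 𝓕 p hp := by rw [h]; trivial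
    change ((1 : 𝓕.extRees) : LaurentPolynomial A).coeff 0 ∈ p at h1
    simpa using h1
  · have h2 := coeff_zero_mul_sub_mem 𝓕 p hp x y
    have h3 : ((x : LaurentPolynomial A).coeff 0 * (y : LaurentPolynomial A).coeff 0) ∈ p := by
      have h4 : ((x * y : 𝓕.extRees) : LaurentPolynomial A).coeff 0 ∈ p := hxy
      simpa using sub_mem h4 h2
    exact Ideal.IsPrime.mem_or_mem (I := p) inferInstance h3

/-- The prime of the extended Rees algebra of elements with all coefficients in `q`. -/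
noncomputable def hatIdeal (q : Ideal A) : Ideal 𝓕.extRees :=
  RingHom.ker ((AddMonoidAlgebra.mapRingHom ℤ (Ideal.Quotient.mk q)).comp 𝓕.extRees.val.toRingHom)

theorem mem_hatIdeal (q : Ideal A) (f : 𝓕.extRees) : f ∈ hatIdeal 𝓕 q ↔ ∀ i, (f : LaurentPolynomial A).coeff i ∈ q := by
  show AddMonoidAlgebra.mapRingHom ℤ (Ideal.Quotient.mk q) (f : LaurentPolynomial A) = 0 ↔ _
  rw [LaurentPolynomial.ext_iff]
  refine forall_congr' fun i => ?_
  simp [Ideal.Quotient.eq_zero_iff_mem]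

theorem two_le_height_qIdeal [IsNoetherianRing 𝓕.extRees] (p : Ideal A) [p.IsPrime] (hp : 𝓕.F 1 ≤ p) (hh : 2 ≤ p.height) :
    2 ≤ (qIdeal 𝓕 p hp).height := by
  obtain ⟨q, hq, hqp⟩ := Ideal.exists_minimalPrimes_le (bot_le : (⊥ : Ideal A) ≤ p)
  haveI := hq.1.1
  have hpr : ∀ r : Ideal A, r.IsPrime → (hatIdeal 𝓕 r).IsPrime := fun r _ => by
    haveI : IsDomain (LaurentPolynomial (A ⧸ r)) := inferInstance
    exact RingHom.ker_isPrime _
  haveI := hpr q hq.1.1
  haveI := hpr p ‹_›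
  haveI := qIdeal_isPrime 𝓕 p hp
  have hne : q ≠ p := fun h => by
    subst h
    rw [Ideal.height_eq_zero_iff.2 hq] at hh
    exact absurd hh (by decide)
  have h1 : hatIdeal 𝓕 q < hatIdeal 𝓕 p := by
    refine lt_of_le_of_ne (fun f hf => (mem_hatIdeal 𝓕 p f).2 fun i => hqp ((mem_hatIdeal 𝓕 q f).1 hf i)) fun he => hne (le_antisymm hqp fun t ht => ?_)
    have h2 : algebraMap A 𝓕.extRees t ∈ hatIdeal 𝓕 p := (mem_hatIdeal 𝓕 p _).2 fun i => by
      rw [Subalgebra.coe_algebraMap, LaurentPolynomial.algebraMap_apply, Algebra.algebraMap_self, RingHom.id_apply,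
        LaurentPolynomial.C_apply]
      split_ifs
      · exact ht
      · exact zero_mem _
    rw [← he] at h2
    simpa [LaurentPolynomial.algebraMap_apply, LaurentPolynomial.C_apply] using (mem_hatIdeal 𝓕 q _).1 h2 0
  have h2 : hatIdeal 𝓕 p < qIdeal 𝓕 p hp := by
    refine lt_of_le_of_ne (fun f hf => (mem_hatIdeal 𝓕 p f).1 hf 0) fun he => ?_
    have h3 : 𝓕.u ∈ hatIdeal 𝓕 p := by
      rw [he]
      show (T (-1) : LaurentPolynomial A).coeff 0 ∈ p
      simp [T_apply]
    have := (mem_hatIdeal 𝓕 p _).1 h3 (-1)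
    rw [Groth.L12.FiltReesExt.coe_u, T_apply, if_pos rfl] at this
    exact Ideal.IsPrime.ne_top' (I := p) ((Ideal.eq_top_iff_one p).2 this)
  have h3 := Order.add_one_le_of_lt (Ideal.height_strict_mono_of_isPrime h1)
  have h4 := Order.add_one_le_of_lt (Ideal.height_strict_mono_of_isPrime h2)
  exact le_trans (by norm_num : (2 : ℕ∞) ≤ 0 + 1 + 1) ((add_le_add ((add_le_add bot_le le_rfl).trans h3) le_rfl).trans h4)

end Groth.L14.FiltS2
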